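import Groth.Agent.SGA3.K244.RedCase
import Groth.Agent.SGA3.K503.Case2
import Groth.Agent.SGA3.K503.CrPow
import Groth.Agent.PRed.K543.MultSub
import Groth.Agent.Books.NormalKer3
import Groth.Agent.S11926

/-!
# Extensions of groups of multiplicative type by connected unipotent groups over a perfect field split

* `exists_retraction_connected_kernel`.
-/

set_option autoImplicit false
set_option linter.unusedSectionVars false

universe u

open TensorProduct WithConv HopfRep

namespace K244.ConnKer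

open K503.QuotExt K503.Case2

section red

variable {k : Type u} [Field k] {A B : Type u} [CommRing A] [HopfAlgebra k A] [CommRing B] [HopfAlgebra k B]
  (ψ : B →ₐc[k] A) [(nilradical A).IsHopfIdeal k] [(nilradical B).IsHopfIdeal k]

/-- The map of the reduced groups. -/
noncomputable def psiR : (B ⧸ nilradical B) →ₐc[k] (A ⧸ nilradical A) :=
  Groth.Agent.Books.NormalKer.liftBialg (nilradical B) (psiQ ψ (nilradical A)) (fun b hb => by
    rw [psiQ_apply, Ideal.Quotient.eq_zero_iff_mem, mem_nilradical]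
    exact (mem_nilradical.1 hb).map ψ)

lemma psiR_mk (b : B) : psiR ψ (Ideal.Quotient.mk _ b) = Ideal.Quotient.mk _ (ψ b) := rfl

lemma psiR_injective (hψ : Function.Injective ψ) : Function.Injective (psiR ψ) := by
  rw [injective_iff_map_eq_zero]
  intro b hb
  obtain ⟨b, rfl⟩ := Ideal.Quotient.mk_surjective b
  rw [psiR_mk, Ideal.Quotient.eq_zero_iff_mem, mem_nilradical] at hb
  rw [Ideal.Quotient.eq_zero_iff_mem, mem_nilradical]
  obtain ⟨n, hn⟩ := hb
  refine ⟨n, hψ ?_⟩
  rw [map_pow, hn, map_zero]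

lemma kerI_psiR_le : K503.QuotExt.kerI (psiR ψ) ≤
    Ideal.map (Ideal.Quotient.mk (nilradical A)) (K503.QuotExt.kerI ψ) := by
  rw [K503.QuotExt.kerI, Ideal.map_le_iff_le_comap]
  intro b hb
  obtain ⟨b, rfl⟩ := Ideal.Quotient.mk_surjective b
  exact Ideal.mem_map_of_mem _ (Ideal.mem_map_of_mem (ψ : B →ₐ[k] A) (x := b) hb)

lemma mk_mem_kerI {a : A} (ha : a ∈ K503.QuotExt.kerI ψ) :
    Ideal.Quotient.mk (nilradical A) a ∈ K503.QuotExt.kerI (psiR ψ) := by
  have h1 : K503.QuotExt.kerI ψ ≤ Ideal.comap (Ideal.Quotient.mk (nilradical A)) (K503.QuotExt.kerI (psiR ψ)) := by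
    rw [K503.QuotExt.kerI, Ideal.map_le_iff_le_comap]
    intro b hb
    have h2 : (Ideal.Quotient.mk (nilradical B) b) ∈ RingHom.ker (Bialgebra.counitAlgHom k (B ⧸ nilradical B)) := hb
    have h3 : psiR ψ (Ideal.Quotient.mk (nilradical B) b) ∈ K503.QuotExt.kerI (psiR ψ) :=
      Ideal.mem_map_of_mem (psiR ψ : (B ⧸ nilradical B) →ₐ[k] (A ⧸ nilradical A)) h2
    rw [psiR_mk] at h3
    exact h3
  exact h1 ha

variable (J : Ideal A) [J.IsHopfIdeal k] (hJ : J = K503.QuotExt.kerI ψ) [(K503.QuotExt.kerI (psiR ψ)).IsHopfIdeal k]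

/-- The map to the kernel algebra of the reduced extension. -/
noncomputable def toC₀ : A →ₐc[k] ((A ⧸ nilradical A) ⧸ K503.QuotExt.kerI (psiR ψ)) :=
  (Bialgebra.Quotient.mkBialgHom (R := k) (K503.QuotExt.kerI (psiR ψ))).comp
    (Bialgebra.Quotient.mkBialgHom (R := k) (nilradical A))

lemma toC₀_apply (a : A) : toC₀ ψ a = Ideal.Quotient.mk _ (Ideal.Quotient.mk (nilradical A) a) := rfl

include hJ in
lemma toC₀_eq_zero (a : A) (ha : a ∈ J) : toC₀ ψ a = 0 := by
  rw [toC₀_apply, Ideal.Quotient.eq_zero_iff_mem]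
  rw [hJ] at ha
  exact mk_mem_kerI ψ ha

/-- The map of the kernel algebras. -/
noncomputable def toC : (A ⧸ J) →ₐc[k] ((A ⧸ nilradical A) ⧸ K503.QuotExt.kerI (psiR ψ)) :=
  Groth.Agent.Books.NormalKer.liftBialg J (toC₀ ψ) (toC₀_eq_zero ψ J hJ)

lemma toC_mk (a : A) : toC ψ J hJ (Ideal.Quotient.mk J a) =
    Ideal.Quotient.mk _ (Ideal.Quotient.mk (nilradical A) a) := rfl

lemma toC_surjective : Function.Surjective (toC ψ J hJ) := by
  intro c
  obtain ⟨c, rfl⟩ := Ideal.Quotient.mk_surjective c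
  obtain ⟨a, rfl⟩ := Ideal.Quotient.mk_surjective c
  exact ⟨Ideal.Quotient.mk J a, rfl⟩

lemma isNilpotent_of_toC (c : A ⧸ J) (hc : toC ψ J hJ c = 0) : IsNilpotent c := by
  obtain ⟨a, rfl⟩ := Ideal.Quotient.mk_surjective c
  rw [toC_mk, Ideal.Quotient.eq_zero_iff_mem] at hc
  have h1 := kerI_psiR_le ψ hc
  rw [← Ideal.mem_comap, Ideal.comap_map_of_surjective _ Ideal.Quotient.mk_surjective] at h1
  obtain ⟨b, hb, c, hc', rfl⟩ := Submodule.mem_sup.1 h1
  rw [← hJ] at hb
  rw [map_add, Ideal.Quotient.eq_zero_iff_mem.2 hb, zero_add]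
  have h2 : IsNilpotent c := by
    rw [Ideal.mem_comap, Ideal.mem_bot, Ideal.Quotient.eq_zero_iff_mem] at hc'
    exact mem_nilradical.1 hc'
  exact h2.map _

end red

theorem exists_retraction_connected_kernel {k : Type u} [Field k] [PerfectField k] (A B : Type u) [CommRing A]
    [HopfAlgebra k A] [Algebra.FiniteType k A] [CommRing B] [HopfAlgebra k B] [Algebra.FiniteType k B]
    (hB : SGA3b.IsMultTypeConst k B) (ψ : B →ₐc[k] A) (hψ : Function.Injective ψ)
    (J : Ideal A) [J.IsHopfIdeal k]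
    (hJ : J = Ideal.map (ψ : B →+* A) (RingHom.ker (Bialgebra.counitAlgHom k B)))
    (hU : HopfRep.IsUnipotent k (A ⧸ J))
    (hconn : ∀ e : A ⧸ J, IsIdempotentElem e → e = 0 ∨ e = 1) :
    ∃ r : A →ₐc[k] B, r.comp ψ = BialgHom.id k B := by
  have hIA : (nilradical A).IsHopfIdeal k := Groth.Agent.S11926.result k A
  have hIB : (nilradical B).IsHopfIdeal k := Groth.Agent.S11926.result k B
  have hK : (K503.QuotExt.kerI (psiR ψ)).IsHopfIdeal k := isHopfIdeal_kerI (psiR ψ)
  have hJ' : J = K503.QuotExt.kerI ψ := hJ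
  have hrA : IsReduced (A ⧸ nilradical A) := (Ideal.isRadical_iff_quotient_reduced _).1 (Ideal.radical_isRadical _)
  have hrB : IsReduced (B ⧸ nilradical B) := (Ideal.isRadical_iff_quotient_reduced _).1 (Ideal.radical_isRadical _)
  have hBr : SGA3b.IsMultTypeConst k (B ⧸ nilradical B) :=
    K543.MultSub.isMultTypeConst_of_surjective
      (Bialgebra.Quotient.mkBialgHom (R := k) (nilradical B)) Ideal.Quotient.mk_surjective hB
  obtain ⟨r', hr'⟩ := K244.RedCase.exists_retraction (A := A ⧸ nilradical A) (B := B ⧸ nilradical B) hBr (psiR ψ)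
    (psiR_injective ψ hψ) (K503.QuotExt.kerI (psiR ψ)) rfl
    (K203.Desc.isUnipotent_of_surjective (toC ψ J hJ') (toC_surjective ψ J hJ') hU) (by
      intro e he
      let f₀ : (A ⧸ J) →ₐ[k] ((A ⧸ nilradical A) ⧸ K503.QuotExt.kerI (psiR ψ)) := (toC ψ J hJ' : (A ⧸ J) →ₐ[k] _)
      let f : (A ⧸ J) →+* ((A ⧸ nilradical A) ⧸ K503.QuotExt.kerI (psiR ψ)) := f₀
      have hf : ∀ c, f c = toC ψ J hJ' c := fun c => rfl
      obtain ⟨e', he', h⟩ := exists_isIdempotentElem_eq_of_ker_isNilpotent f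
        (fun c hc => isNilpotent_of_toC ψ J hJ' c hc) e
        (by obtain ⟨c, hc⟩ := toC_surjective ψ J hJ' e; exact ⟨c, hc⟩) he
      rcases hconn e' he' with h1 | h1
      · left
        rw [← h, h1, map_zero]
      · right
        rw [← h, h1, map_one])
  obtain ⟨μ, hμ⟩ := exists_int hB
  obtain ⟨μ', hμ'⟩ := exists_int hBr
  have : IsNoetherianRing A := isNoetherianRing_of_fg (k := k)
  have : IsNoetherianRing B := isNoetherianRing_of_fg (k := k)
  obtain ⟨s, hs, -⟩ := K503.Perf.exists_retraction (E := B ⧸ nilradical B) (ext_mk ψ hψ J hJ) hU μ hμ.one hμ.left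
    (r'.comp (Bialgebra.Quotient.mkBialgHom (R := k) (nilradical A)))
    (Bialgebra.Quotient.mkBialgHom (R := k) (nilradical B))
    (fun b => DFunLike.congr_fun hr' (Ideal.Quotient.mk _ b)) μ' hμ'.one hμ'.left
    (fun p hp _ b hb hb0 => by
      obtain ⟨n, hn⟩ := K503.CrPow.exists_nil_pow B p hp.one_lt
      obtain ⟨d, hd⟩ := hb n
      have h1 : IsNilpotent b := mem_nilradical.1 (Ideal.Quotient.eq_zero_iff_mem.1 hb0)
      rw [← hd] at h1 ⊢
      exact hn d (by
        obtain ⟨m, hm⟩ := h1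
        exact ⟨p ^ n * m, by rw [pow_mul, hm]⟩))
  exact ⟨s, hs⟩

end K244.ConnKer
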