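import Groth.Agent.SGA3.K203.HomPt
import Groth.Agent.Sga3B.Par.CochBC

/-!
# Homomorphisms of group schemes over an extension field and bialgebra maps of the base changes
-/

set_option autoImplicit false

universe u

open TensorProduct WithConv

namespace K244.HomBC

open K203.Pts K203.HomPt Groth.Agent.Books.DynBasic Groth.Agent.Sga3A.MTBasis

variable {k : Type u} [Field k] {A : Type u} [CommRing A] [HopfAlgebra k A]
  {B : Type u} [CommRing B] [HopfAlgebra k B] {K : Type u} [Field K] [Algebra k K]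

/-- the linear extension of a point -/
noncomputable def extPt (x : WithConv (A →ₐ[k] K ⊗[k] B)) : K ⊗[k] A →ₐ[K] K ⊗[k] B :=
  Algebra.TensorProduct.lift (Algebra.ofId K (K ⊗[k] B)) x.ofConv (fun _ _ => Commute.all _ _)

lemma extPt_one_tmul (x : WithConv (A →ₐ[k] K ⊗[k] B)) (a : A) : extPt x (1 ⊗ₜ a) = x.ofConv a := by
  rw [extPt, Algebra.TensorProduct.lift_tmul, map_one, one_mul]

lemma ext_one {M : Type u} [AddCommGroup M] [Module K M] {f g : K ⊗[k] A →ₗ[K] M}
    (h : ∀ a, f (1 ⊗ₜ a) = g (1 ⊗ₜ a)) : f = g := by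
  apply LinearMap.ext
  intro x
  induction x with
  | zero => rw [map_zero, map_zero]
  | add x y hx hy => rw [map_add, map_add, hx, hy]
  | tmul c a =>
    have h1 : c ⊗ₜ[k] a = c • ((1 : K) ⊗ₜ[k] a) := by rw [TensorProduct.smul_tmul', smul_eq_mul, mul_one]
    rw [h1, map_smul, map_smul, h]

/-- A homomorphism over `K` is a bialgebra map of the base changes. -/
theorem exists_bialgHom (x : WithConv (A →ₐ[k] K ⊗[k] B)) (hx : IsHom x) :
    ∃ R : (K ⊗[k] A) →ₐc[K] (K ⊗[k] B), ∀ a, R (1 ⊗ₜ a) = x.ofConv a := by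
  have h1 : ∀ a, (evL (1 : WithConv (B →ₐ[k] K))) (x.ofConv a) =
      algebraMap k K (CoalgebraStruct.counit (R := k) a) := by
    intro a
    exact DFunLike.congr_fun (congrArg WithConv.ofConv hx.ev_one) a
  have h0 : ∀ z : K ⊗[k] B, CoalgebraStruct.counit (R := K) z = evL (1 : WithConv (B →ₐ[k] K)) z := by
    intro z
    induction z with
    | zero => rw [map_zero, map_zero]
    | add x y hx hy => rw [map_add, map_add, hx, hy]
    | tmul c b =>
      rw [evL_tmul, TensorProduct.counit_tmul, one_apply, CommSemiring.counit_apply, Algebra.smul_def, mul_comm]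
  refine ⟨BialgHom.ofAlgHom (extPt x) ?_ ?_, fun a => extPt_one_tmul x a⟩
  · apply AlgHom.toLinearMap_injective
    apply ext_one
    intro a
    change CoalgebraStruct.counit (R := K) (extPt x (1 ⊗ₜ a)) = CoalgebraStruct.counit (R := K) ((1 : K) ⊗ₜ[k] a)
    rw [extPt_one_tmul, h0, h1, TensorProduct.counit_tmul, CommSemiring.counit_apply, Algebra.smul_def, mul_one]
  · apply AlgHom.toLinearMap_injective
    apply ext_one
    intro a
    change TensorProduct.map (extPt x).toLinearMap (extPt x).toLinearMap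
      (CoalgebraStruct.comul (R := K) ((1 : K) ⊗ₜ[k] a)) = CoalgebraStruct.comul (R := K) (extPt x (1 ⊗ₜ a))
    rw [extPt_one_tmul]
    have hx' : mapPt (mD B K) x = mapPt (mL B K) x * mapPt (mR B K) x := hx
    have h2 := DFunLike.congr_fun (congrArg WithConv.ofConv hx') a
    have h3 : CoalgebraStruct.comul (R := K) (x.ofConv a) =
        TensorProduct.AlgebraTensorModule.distribBaseChange k K B B (mD B K (x.ofConv a)) := by
      rw [Groth.Agent.Sga3.H809.Transfer.comul_eq]
      congr 1
    rw [h3]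
    change _ = TensorProduct.AlgebraTensorModule.distribBaseChange k K B B ((mapPt (mD B K) x).ofConv a)
    rw [h2, mul_apply, comul_one_tmul]
    generalize (CoalgebraStruct.comul (R := k) a : A ⊗[k] A) = z
    induction z with
    | zero => simp
    | add x y hx hy => rw [TensorProduct.tmul_add, map_add, map_add, map_add, map_add, hx, hy]
    | tmul u v =>
      rw [Algebra.TensorProduct.lift_tmul]
      refine Eq.trans ?_ (dist_mul (x.ofConv u) (x.ofConv v)).symm
      have h4 : TensorProduct.AlgebraTensorModule.distribBaseChange k K A A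
            ((1 : K) ⊗ₜ[k] (u ⊗ₜ[k] v)) = ((1 : K) ⊗ₜ[k] u) ⊗ₜ[K] ((1 : K) ⊗ₜ[k] v) :=
          K203.Desc.ι₂_tmul K A u v
      rw [h4, TensorProduct.map_tmul]
      change extPt x ((1 : K) ⊗ₜ[k] u) ⊗ₜ[K] extPt x ((1 : K) ⊗ₜ[k] v) = _
      rw [extPt_one_tmul, extPt_one_tmul]

end K244.HomBC
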