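import Groth.Agent.SGA3.K244.HomBC
import Groth.Agent.SGA3.K203.PerfConj
import Groth.Agent.SGA3.K101.DescSec
import Groth.Agent.SGA3.K503.Case2
import Groth.Agent.Fdesc.GeomRed
import Groth.Agent.Sga3.H809.Main
import Groth.Agent.Books.HopfConn

/-!
# Splitting of extensions of groups of multiplicative type by connected unipotent groups: the reduced case
-/

set_option autoImplicit false

universe u

open TensorProduct WithConv

namespace K244.RedCase

open K203.Pts K203.HomPt Groth.Agent.Books.DynBasic Groth.Agent.Sga3A.MTBasis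
  Groth.Agent.Sga3.H809.Transfer Groth.Agent.Books.AffBridge2

section quot

variable {k : Type u} [Field k] {A : Type u} [CommRing A] [HopfAlgebra k A]
  {B : Type u} [CommRing B] [HopfAlgebra k B]

/-- The kernel algebra of a split extension is reduced. -/
theorem isReduced_quot [IsReduced A] (ψ : B →ₐc[k] A) (r : A →ₐc[k] B) (hr : r.comp ψ = BialgHom.id k B)
    (J : Ideal A) (hJ : J = kerIdeal ψ) : IsReduced (A ⧸ J) := by
  have : Nontrivial B := (Bialgebra.counitAlgHom k B).toRingHom.domain_nontrivial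
  have h1 := theta_comp_phi ψ r hr J hJ
  have h2 : Function.Injective (phi ψ r hr J hJ) :=
    Function.LeftInverse.injective (g := theta r J) fun a ↦ DFunLike.congr_fun h1 a
  have h3 : Function.Injective (Algebra.TensorProduct.includeLeft : (A ⧸ J) →ₐ[k] (A ⧸ J) ⊗[k] B) :=
    Algebra.TensorProduct.includeLeft_injective (algebraMap k B).injective
  exact isReduced_of_injective ((phi ψ r hr J hJ).comp Algebra.TensorProduct.includeLeft) (h2.comp h3)

end quot

section main

variable {k : Type u} [Field k] {A : Type u} [CommRing A] [HopfAlgebra k A]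
  {B : Type u} [CommRing B] [HopfAlgebra k B]

theorem isMultTypeConst_bc (K : Type u) [Field K] [Algebra k K] [IsAlgClosed K] [Algebra.FiniteType k B]
    (hB : SGA3b.IsMultTypeConst k B) : SGA3b.IsMultTypeConst K (K ⊗[k] B) :=
  ⟨K, inferInstance, inferInstance, inferInstance,
    Groth.Agent.Sga3A.MultBC.IsDiag.baseChange K
      (Groth.Agent.Sga3.H809.Main.isDiag_of_isMultTypeConst k K B hB)⟩

/-- Conjugacy over an algebraically closed field. -/
theorem exists_isConj_closed {K : Type u} [Field K] [IsAlgClosed K] {A : Type u} [CommRing A] [HopfAlgebra K A]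
    {B : Type u} [CommRing B] [HopfAlgebra K B] [Algebra.FiniteType K A] [Algebra.FiniteType K B] [IsReduced B]
    (hB : SGA3b.IsMultTypeConst K B) (ψ : B →ₐc[K] A) (J : Ideal A) [J.IsHopfIdeal K] (hJ : J = kerIdeal ψ)
    (hU : HopfRep.IsUnipotent K (A ⧸ J)) (hid : ∀ e : A ⧸ J, IsIdempotentElem e → e = 0 ∨ e = 1)
    (r' r'' : A →ₐc[K] B) (hr' : r'.comp ψ = BialgHom.id K B) (hr'' : r''.comp ψ = BialgHom.id K B) :
    ∃ u ∈ (res (R := K) ψ).ker, K203.CommConj.IsConj u (pt r') (pt r'') := by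
  obtain ⟨M, _, ⟨g⟩⟩ := Groth.Agent.Sga3.H785.GalDesc.exists_gbasis K hB
  have hcoc : Coalgebra.IsCocomm K B := K203.CommLift.isCocomm_of_gbasis g
  have hM : Group.FG M := K203.TorsPts.fg_of_gbasis g
  have hred : IsReduced (K ⊗[K] B) := Groth.Agent.Fdesc.GeomRed.isReduced_tensor_of_perfectField B K
  have hp : ∀ p : ℕ, p.Prime → (p : K) = 0 → ∀ x : M, x ^ p = 1 → x = 1 :=
    fun p h1 h2 ↦ K203.TorsPts.no_torsion_of_isReduced g p h1 h2
  exact K203.PerfConj.exists_isConj (K := K) (fun c _ => ⟨c, rfl⟩) ψ J hJ hU hid g hM hp r' r''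
    (fun b ↦ DFunLike.congr_fun hr' b) (fun b ↦ DFunLike.congr_fun hr'' b)

/-- **The reduced case.** -/
theorem exists_retraction [PerfectField k] [Algebra.FiniteType k A] [Algebra.FiniteType k B] [IsReduced A]
    [IsReduced B] (hB : SGA3b.IsMultTypeConst k B) (ψ : B →ₐc[k] A) (hψ : Function.Injective ψ) (J : Ideal A)
    [J.IsHopfIdeal k] (hJ : J = kerIdeal ψ) (hU : HopfRep.IsUnipotent k (A ⧸ J))
    (hconn : ∀ e : A ⧸ J, IsIdempotentElem e → e = 0 ∨ e = 1) :
    ∃ r : A →ₐc[k] B, r.comp ψ = BialgHom.id k B := by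
  let K := AlgebraicClosure k
  obtain ⟨R₀, hR₀⟩ := K203.Desc.exists_retraction_closed K hB ψ hψ J hJ hU
  have hredA : IsReduced (K ⊗[k] A) := Groth.Agent.Fdesc.GeomRed.isReduced_tensor_of_perfectField A K
  have hredB : IsReduced (K ⊗[k] B) := Groth.Agent.Fdesc.GeomRed.isReduced_tensor_of_perfectField B K
  let π : (K ⊗[k] A) →ₐc[K] (K ⊗[k] (A ⧸ J)) := bcHom K (Bialgebra.Quotient.mkBialgHom (R := k) J)
  have hπ : Function.Surjective π := bcHom_surjective K _ Ideal.Quotient.mk_surjective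
  have hI : (RingHom.ker π).IsHopfIdeal K := isHopfIdeal_ker π
  have hJ' : RingHom.ker π = kerIdeal (bcHom K ψ) := by
    rw [K203.Desc.kerIdeal_bcHom, ← hJ]
    exact K203.Desc.ker_bcHom_mk K J
  let e := quotKerEquiv π hπ (RingHom.ker π) rfl
  have hU' : HopfRep.IsUnipotent K ((K ⊗[k] A) ⧸ RingHom.ker π) :=
    K203.Desc.isUnipotent_of_injective (e : ((K ⊗[k] A) ⧸ RingHom.ker π) →ₐc[K] (K ⊗[k] (A ⧸ J)))
      e.injective (K203.Desc.isUnipotent_bc K hU)
  have hredQ : IsReduced ((K ⊗[k] A) ⧸ RingHom.ker π) := isReduced_quot (bcHom K ψ) R₀ hR₀ _ hJ'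
  have hredC : IsReduced (K ⊗[k] (A ⧸ J)) := isReduced_of_injective e.symm e.symm.injective
  have hidC := K503.Case2.idem_bc (k := k) hconn K
  have hdom : IsDomain (K ⊗[k] (A ⧸ J)) :=
    Groth.Agent.Books.HopfConn.isDomain_of_isReduced (k := K) hidC
  have hidQ : ∀ z : (K ⊗[k] A) ⧸ RingHom.ker π, IsIdempotentElem z → z = 0 ∨ z = 1 := by
    intro z hz
    have he : Function.Injective e := e.injective
    rcases hidC (e z) (hz.map e) with h | h
    · left
      apply he
      rw [h, map_zero]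
    · right
      apply he
      rw [h, map_one]
  let x : WithConv (A →ₐ[k] K ⊗[k] B) :=
    toConv (((R₀ : (K ⊗[k] A) →ₐ[K] (K ⊗[k] B)).restrictScalars k).comp
      (Algebra.TensorProduct.includeRight : A →ₐ[k] K ⊗[k] A))
  have hx : IsHom x := isHom_of_bialgHom R₀
  have hl : IsLift ψ x := by
    intro b
    exact DFunLike.congr_fun hR₀ ((1 : K) ⊗ₜ[k] b)
  refine K101.DescSec.exists_retraction_of_conj k K A B ψ J hJ hU x hx hl ?_
  intro y hy hly
  obtain ⟨R₁, hR₁⟩ := K244.HomBC.exists_bialgHom y hy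
  have hR₁' : R₁.comp (bcHom K ψ) = BialgHom.id K (K ⊗[k] B) := by
    apply DFunLike.ext
    intro z
    have h1 : (R₁ : (K ⊗[k] A) →ₐ[K] (K ⊗[k] B)).toLinearMap ∘ₗ
        (bcHom K ψ : (K ⊗[k] B) →ₐ[K] (K ⊗[k] A)).toLinearMap = LinearMap.id := by
      apply K244.HomBC.ext_one
      intro b
      change R₁ (bcHom K ψ ((1 : K) ⊗ₜ[k] b)) = (1 : K) ⊗ₜ[k] b
      rw [bcHom_tmul, hR₁]
      exact hly b
    exact DFunLike.congr_fun h1 z
  obtain ⟨U, hU1, hU2⟩ := exists_isConj_closed (isMultTypeConst_bc K hB) (bcHom K ψ) (RingHom.ker π) hJ' hU'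
    hidQ R₀ R₁ hR₀ hR₁'
  refine ⟨Groth.Agent.Sga3B.Par.CochBC.res k K A K U, ?_, ?_⟩
  · rw [MonoidHom.mem_ker] at hU1
    apply K203.Pts.ext
    intro b
    have h1 := DFunLike.congr_fun (congrArg WithConv.ofConv hU1) ((1 : K) ⊗ₜ[k] b)
    rw [res_apply, Groth.Agent.Sga3B.Par.CochBC.res_apply, one_apply]
    change U.ofConv (bcHom K ψ ((1 : K) ⊗ₜ[k] b)) = _ at h1
    rw [bcHom_tmul] at h1
    refine h1.trans ?_
    rw [one_apply, TensorProduct.counit_tmul, CommSemiring.counit_apply, Algebra.smul_def, mul_one]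
    rfl
  · have h1 := congrArg (Groth.Agent.Sga3B.Par.CochBC.res k K A (K ⊗[k] B)) hU2
    rw [map_mul, map_mul, map_inv] at h1
    have h2 : Groth.Agent.Sga3B.Par.CochBC.res k K A (K ⊗[k] B) (pt R₁) = y := by
      apply K203.Pts.ext
      intro a
      exact hR₁ a
    have h3 : Groth.Agent.Sga3B.Par.CochBC.res k K A (K ⊗[k] B) (pt R₀) = x := rfl
    have h4 : Groth.Agent.Sga3B.Par.CochBC.res k K A (K ⊗[k] B) (mapPt (Algebra.ofId K (K ⊗[k] B)) U) =
        cst B (Groth.Agent.Sga3B.Par.CochBC.res k K A K U) := rfl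
    rw [h2, h3, h4] at h1
    exact h1

end main

end K244.RedCase
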